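import Cfsg.Agent.LocalCStar.OddMatch
import Cfsg.Agent.LocalCStar.CGT
import Cfsg.Agent.PushUpBlocks.Members
import Cfsg.Agent.JComp.Basic

/-!
In a 2-minimal group of characteristic 2 some subgroup of a Sylow 2-subgroup invariant under a given group of
automorphisms of odd order is normal.
-/

set_option autoImplicit false
set_option linter.unusedSectionVars false
set_option linter.style.haveILetI false
set_option maxHeartbeats 800000

namespace Cfsg.Lib.LocalCStar.OddAut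

open Subgroup Cfsg.Lib.PushMin Cfsg.Lib.FFModule Cfsg.Lib.FFSLTwo Cfsg.Lib.Known.AutPSL2
open scoped commutatorElement

universe u

variable {G : Type u} [Group G] [Finite G] [hp : Fact (Nat.Prime 2)] {T : Sylow 2 G}

/-- what is used of the piece -/
structure Facts (T : Sylow 2 G) (E Q Q₁ : Subgroup G) : Prop where
  hQB : Q ≤ Cfsg.baumannSubgroupOf 2 (T : Subgroup G)
  hBn : Cfsg.baumannSubgroupOf 2 (T : Subgroup G) ≤ normalizer (Q : Set G)
  hel : Cfsg.IsElementaryAbelian 2 Q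
  hQ₁ : Q₁ ≤ Q
  hcard : Nat.card (Cfsg.baumannSubgroupOf 2 (T : Subgroup G)) * Nat.card Q₁ =
    Nat.card Q * Nat.card ↥(Cfsg.baumannSubgroupOf 2 (T : Subgroup G) ⊓ centralizer (Q : Set G))
  hcomm : ∀ x ∈ Cfsg.baumannSubgroupOf 2 (T : Subgroup G) ⊓ centralizer (Q : Set G),
    ∀ y ∈ Cfsg.baumannSubgroupOf 2 (T : Subgroup G) ⊓ centralizer (Q : Set G),
      x * y * x⁻¹ * y⁻¹ ∈ centralizer (E : Set G)
  hsq : ∀ x ∈ Cfsg.baumannSubgroupOf 2 (T : Subgroup G) ⊓ centralizer (Q : Set G), x * x ∈ centralizer (E : Set G)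
  key : ∀ b ∈ Cfsg.baumannSubgroupOf 2 (T : Subgroup G), b ∉ centralizer (Q : Set G) → ∀ a ∈ Q,
    b * a * b⁻¹ * a⁻¹ ∈ centralizer (E : Set G) → a ∈ Q₁
  hV : Q ≤ vS 2 G
  hcore : ⁅Cfsg.pCore 2 G, E⁆ ≤ Q
  hres : Cfsg.pResidualOf 2 E = E
  hgen : E ⊔ (T : Subgroup G) = ⊤
  hmove : ¬ E ≤ centralizer (Q : Set G)

/-- a normal subgroup of a subgroup is normalised by it -/
theorem le_normalizer_map_sub (K : Subgroup G) (X : Subgroup ↥K) [X.Normal] :
    K ≤ normalizer ((X.map K.subtype : Subgroup G) : Set G) := by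
  refine le_trans ?_ (le_normalizer_map K.subtype)
  rw [normalizer_eq_top_iff.2 (inferInstance : X.Normal), ← MonoidHom.range_eq_map, range_subtype]

theorem normalizer_le_normalizer_core (K : Subgroup G) :
    normalizer (K : Set G) ≤ normalizer (Cfsg.pCoreOf 2 K : Set G) := by
  refine normalizer_le_char (map_subtype_le _) ?_
  rw [Cfsg.pCoreOf, subgroupOf, comap_map_eq_self_of_injective K.subtype_injective]
  exact Cfsg.Lib.Components.pCore_characteristic

theorem omega_ne_bot (hT : (T : Subgroup G) ≠ ⊥) : Cfsg.omegaOneCenter 2 (T : Subgroup G) ≠ ⊥ := by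
  intro h
  have hc := Cfsg.Lib.Thompson.center_ne_bot T.2 hT
  haveI : Nontrivial ↥((T : Subgroup G) ⊓ centralizer ((T : Subgroup G) : Set G)) :=
    (nontrivial_iff_ne_bot _).mpr hc
  obtain ⟨x, hx⟩ := exists_prime_orderOf_dvd_card'
    (G := ↥((T : Subgroup G) ⊓ centralizer ((T : Subgroup G) : Set G))) 2
    (((T.2.to_le inf_le_left).card_eq_or_dvd).resolve_left Finite.one_lt_card.ne')
  have hxp : (x : G) ^ 2 = 1 := by
    have h' := pow_orderOf_eq_one x
    rw [hx] at h'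
    exact congrArg Subtype.val h'
  have hxZ : (x : G) ∈ Cfsg.omegaOneCenter 2 (T : Subgroup G) := subset_closure ⟨x.2, hxp⟩
  rw [h, mem_bot] at hxZ
  rw [show x = 1 from Subtype.ext hxZ, orderOf_one] at hx
  omega

theorem omega_char : ((Cfsg.omegaOneCenter 2 (T : Subgroup G)).subgroupOf (T : Subgroup G)).Characteristic := by
  refine characteristic_iff_map_le.2 fun e => ?_
  set Z := Cfsg.omegaOneCenter 2 (T : Subgroup G)
  have hgen : Z ≤ ((Z.subgroupOf (T : Subgroup G)).comap e.toMonoidHom).map (T : Subgroup G).subtype := by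
    refine (closure_le _).2 fun x hx => ⟨⟨x, hx.1.1⟩, subset_closure ⟨⟨(e _).2, ?_⟩, ?_⟩, rfl⟩
    · refine mem_centralizer_iff.2 fun y hy => ?_
      obtain ⟨y', hy'⟩ := e.surjective ⟨y, hy⟩
      have h1 : y' * ⟨x, hx.1.1⟩ = ⟨x, hx.1.1⟩ * y' := Subtype.ext (mem_centralizer_iff.1 hx.1.2 y' y'.2)
      have h2 := congrArg e h1
      rw [map_mul, map_mul, hy'] at h2
      exact congrArg Subtype.val h2
    · show ((e ⟨x, hx.1.1⟩ : ↥(T : Subgroup G)) : G) ^ 2 = 1
      rw [← Subgroup.coe_pow, ← map_pow, show (⟨x, hx.1.1⟩ : ↥(T : Subgroup G)) ^ 2 = 1 from Subtype.ext hx.2,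
        map_one]
      rfl
  rintro _ ⟨a, ha, rfl⟩
  obtain ⟨a', ha', haa⟩ := hgen (mem_subgroupOf.1 ha)
  exact (Subtype.ext haa : a' = a) ▸ ha'

theorem exists_facts (h : Hyps T) : ∃ E Q Q₁ : Subgroup G, Facts T E Q Q₁ := by
  classical
  obtain ⟨W, _, _, ⟨d⟩⟩ := Cfsg.Lib.PushMin.exists_env h
  obtain ⟨A₀, hA⟩ := d.glob.nonempty
  obtain ⟨X₀, hX, hnc⟩ := d.glob.exists_outer_nc hA.1
  obtain ⟨pc, ⟨F, _, _, n, hn, hF, ρ, l, hker, hρ, hBu, huB, ladd, lsurj, lker, lact⟩, -, -, hcen, hPB⟩ :=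
    d.exists_piece' h hA hX hnc
  obtain ⟨hres, hEB, hQE, F', _, _, n', -, -, -, hcase⟩ := pc.shape
  set B := Cfsg.baumannSubgroupOf 2 (T : Subgroup G) with hB
  set E := pc.E with hE
  set Q := Cfsg.pCoreOf 2 E with hQ
  set R := centralizer (E : Set G)
  set PH := (Cfsg.pCore 2 ↥pc.H).map pc.H.subtype with hPH
  have hQW : Cfsg.omegaOneCenter 2 Q = Q := (hcase.resolve_right fun h3 => absurd h3.1 (by norm_num)).symm
  rw [hQW] at ladd lsurj lker lact
  have hel : Cfsg.IsElementaryAbelian 2 Q := hQW ▸ omegaOneCenter_elementary (p := 2) Q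
  have hEH : E ≤ pc.H := pc.res.le.trans (map_subtype_le _)
  have hQle : Q ≤ E := map_subtype_le _
  have hEn : pc.H ≤ normalizer (E : Set G) := by
    rw [hE, pc.res]
    exact le_normalizer_map_sub pc.H _
  have hPn : pc.H ≤ normalizer (PH : Set G) := le_normalizer_map_sub pc.H _
  have hPp : IsPGroup 2 PH := Cfsg.Lib.JComp.isPGroup_pCoreOf pc.H
  -- normal 2-subgroups of the overgroup act on the piece through `Q`
  have hcoreE : ∀ X : Subgroup G, IsPGroup 2 X → E ≤ normalizer (X : Set G) → X ≤ normalizer (E : Set G) →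
      ⁅X, E⁆ ≤ Q := by
    intro X hXp hEX hXE
    refine le_trans ?_ (Cfsg.Lib.JComp.le_pCoreOf (A := X ⊓ E) (hXp.to_le inf_le_left) inf_le_right
      ((le_inf hEX Subgroup.le_normalizer).trans inf_normalizer_le_normalizer_inf))
    refine commutator_le.2 fun x hx e he => ⟨?_, ?_⟩
    · rw [commutatorElement_def, show x * e * x⁻¹ * e⁻¹ = x * (e * x⁻¹ * e⁻¹) by group]
      exact X.mul_mem hx ((mem_normalizer_iff.1 (hEX he) _).1 (X.inv_mem hx))
    · rw [commutatorElement_def]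
      exact E.mul_mem ((mem_normalizer_iff.1 (hXE hx) e).1 he) (E.inv_mem he)
  have hPE : ⁅PH, E⁆ ≤ Q :=
    hcoreE PH hPp (hEH.trans hPn) ((map_subtype_le _).trans hEn)
  have hQP : ⁅Q, PH⁆ = ⊥ := by
    have h1 : ⁅⁅E, PH⁆, Q⁆ = ⊥ := by
      rw [commutator_comm E PH, commutator_eq_bot_iff_le_centralizer]
      exact hPE.trans fun a ha => mem_centralizer_iff.2 fun b hb => Cfsg.Lib.ElemToolkit.comm_of hel.1 hb ha
    have h2 : ⁅⁅PH, Q⁆, E⁆ = ⊥ := by
      rw [commutator_comm PH Q, commutator_eq_bot_iff_le_centralizer]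
      refine commutator_le.2 fun a ha x hx => mem_centralizer_iff.2 fun e he => ?_
      exact hcen x hx a ha e (hEH he)
    have h3 := commutator_commutator_eq_bot_of_rotate h1 h2
    rwa [hQE] at h3
  -- the centralizer of `Q` in `B`
  have hρ1 : ∀ b : ↥pc.H, (ρ b = 1 ↔ (b : G) ∈ PH) := fun b => by
    rw [← MonoidHom.mem_ker, hker]
    exact (mem_map_iff_mem pc.H.subtype_injective).symm
  have hBQ : B ≤ normalizer (Q : Set G) := by
    intro b hb
    refine normalizer_le_normalizer_core E ?_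
    exact Cfsg.Lib.BlockBasic.baumann_le_normalizer hEB hb
  have hlact : ∀ b ∈ B, ∀ a ∈ Q, ∃ x : F, (∀ hb : b ∈ pc.H, ρ ⟨b, hb⟩ = uS x) ∧
      l (b * a * b⁻¹) 0 = l a 0 + x * l a 1 ∧ l (b * a * b⁻¹) 1 = l a 1 := by
    intro b hb a ha
    obtain ⟨x, hx⟩ := hBu ⟨b, pc.hB hb⟩ hb
    refine ⟨x, fun _ => hx, ?_, ?_⟩ <;>
      rw [lact ⟨b, pc.hB hb⟩ a ha, hx, coe_uS] <;> simp [Matrix.mulVec, dotProduct, Fin.sum_univ_two]
  have hP : ∀ b ∈ B, (b ∈ centralizer (Q : Set G) ↔ b ∈ PH) := by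
    intro b hb
    refine ⟨fun hc => ?_, fun hc => ?_⟩
    · obtain ⟨a, ha, hla⟩ := lsurj ![0, 1]
      obtain ⟨x, hx, h0, -⟩ := hlact b hb a ha
      rw [show b * a * b⁻¹ = a by rw [← mem_centralizer_iff.1 hc a ha, mul_inv_cancel_right], hla] at h0
      have hx0 : x = 0 := by simpa using h0.symm
      refine (hρ1 ⟨b, pc.hB hb⟩).1 ?_
      rw [hx (pc.hB hb), hx0]
      exact Cfsg.Lib.PushBlocks.uS_zero
    · exact commutator_eq_bot_iff_le_centralizer.1 (by rw [commutator_comm, hQP]) hc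
  -- the fixed part of `Q`
  set f : ↥Q →* Multiplicative F := MonoidHom.mk' (fun a => Multiplicative.ofAdd (l (a : G) 1)) fun a b => by
    rw [← ofAdd_add]
    exact congrArg Multiplicative.ofAdd (congrFun (ladd a a.2 b b.2) 1)
  have hf : Function.Surjective f := fun y => by
    obtain ⟨a, ha, hla⟩ := lsurj ![0, y.toAdd]
    exact ⟨⟨a, ha⟩, by simp [f, hla]⟩
  set Q₁ := f.ker.map Q.subtype with hQ₁
  have hkeyQ₁ : ∀ a ∈ Q, l a 1 = 0 → a ∈ Q₁ := fun a ha h1 =>
    ⟨⟨a, ha⟩, show f ⟨a, ha⟩ = 1 by simp [f, h1], rfl⟩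
  have hQB : Q ≤ B := by
    refine le_trans ?_ hPB
    exact Cfsg.Lib.JComp.le_pCoreOf (Cfsg.Lib.JComp.isPGroup_pCoreOf E) (hQle.trans hEH)
      (hEn.trans (normalizer_le_normalizer_core E))
  have hcQ : Nat.card Q = Nat.card F * Nat.card Q₁ := by
    rw [hQ₁, card_map_of_injective Q.subtype_injective,
      Subgroup.card_eq_card_quotient_mul_card_subgroup f.ker,
      Nat.card_congr (QuotientGroup.quotientKerEquivOfSurjective f hf).toEquiv]
    rfl
  have hcB : Nat.card B = Nat.card F * Nat.card ↥(B ⊓ centralizer (Q : Set G)) := by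
    let g : ↥B →* Matrix.SpecialLinearGroup (Fin 2) F := ρ.comp (inclusion pc.hB)
    have hk : g.ker = (B ⊓ centralizer (Q : Set G)).subgroupOf B := by
      ext b
      rw [MonoidHom.mem_ker, mem_subgroupOf, mem_inf, hP b b.2]
      exact (hρ1 _).trans ⟨fun h => ⟨b.2, h⟩, fun h => h.2⟩
    have hr : Nat.card g.range = Nat.card F := by
      refine (Nat.card_eq_of_bijective (fun x : F => (⟨uS x, ?_⟩ : g.range)) ⟨?_, ?_⟩).symm
      · obtain ⟨b, hb, hbx⟩ := huB x
        exact ⟨⟨b, hb⟩, hbx⟩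
      · intro x y hxy
        exact Cfsg.Lib.PushBlocks.uS_inj (congrArg Subtype.val hxy)
      · rintro ⟨_, b, rfl⟩
        obtain ⟨x, hx⟩ := hBu (inclusion pc.hB b) b.2
        exact ⟨x, Subtype.ext hx.symm⟩
    have h1 := Subgroup.card_eq_card_quotient_mul_card_subgroup g.ker
    rw [Nat.card_congr (QuotientGroup.quotientKerEquivRange g).toEquiv, hr, hk,
      Nat.card_congr (subgroupOfEquivOfLe inf_le_left).toEquiv] at h1
    exact h1
  have hPc : ∀ x ∈ B ⊓ centralizer (Q : Set G), ∀ e ∈ E, ∃ q ∈ Q, e * x * e⁻¹ = q * x := by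
    intro x hx e he
    refine ⟨e * x * e⁻¹ * x⁻¹, ?_, by group⟩
    have h1 : ⁅e, x⁆ ∈ ⁅E, PH⁆ := commutator_mem_commutator he ((hP x hx.1).1 hx.2)
    rw [commutator_comm, commutatorElement_def] at h1
    exact hPE h1
  have hR : ∀ x : G, (∀ e ∈ E, e * x * e⁻¹ = x) → x ∈ R := fun x hx => mem_centralizer_iff.2 fun e he => by
    calc e * x = e * x * e⁻¹ * e := by group
      _ = x * e := by rw [hx e he]
  obtain ⟨hF0, hblk⟩ : 1 < Nat.card F ∧ Cfsg.IsBaumannBlock 2 (T : Subgroup G) E :=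
    ⟨Finite.one_lt_card, Env.isBlock h hA hX hnc pc⟩
  refine ⟨E, Q, Q₁, ⟨hQB, hBQ, hel, map_subtype_le _, ?_, ?_, ?_, ?_, ?_, ?_, hres, ?_, ?_⟩⟩
  · rw [hcQ, hcB]; ring
  · intro x hx y hy
    refine hR _ fun e he => ?_
    obtain ⟨q, hq, hqx⟩ := hPc x hx e he
    obtain ⟨r, hr, hry⟩ := hPc y hy e he
    have cq : ∀ {z}, z ∈ B ⊓ centralizer (Q : Set G) → ∀ {a}, a ∈ Q → Commute a z := fun hz _ ha =>
      mem_centralizer_iff.1 hz.2 _ ha
    have hqr : Commute q r := Cfsg.Lib.ElemToolkit.comm_of hel.1 hq hr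
    calc e * (x * y * x⁻¹ * y⁻¹) * e⁻¹
        = (e * x * e⁻¹) * (e * y * e⁻¹) * (e * x * e⁻¹)⁻¹ * (e * y * e⁻¹)⁻¹ := by group
      _ = q * ((x * r) * y) * (x⁻¹ * q⁻¹) * (y⁻¹ * r⁻¹) := by rw [hqx, hry]; group
      _ = q * r * (x * y * x⁻¹) * q⁻¹ * (y⁻¹ * r⁻¹) := by rw [← (cq hx hr).eq]; group
      _ = q * r * q⁻¹ * (x * y * x⁻¹) * (y⁻¹ * r⁻¹) := by
        rw [mul_assoc (q * r) (x * y * x⁻¹), ← (((cq hx hq).mul_right (cq hy hq)).mul_right
          (cq hx hq).inv_right).inv_left.eq, ← mul_assoc (q * r)]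
      _ = r * ((x * y * x⁻¹ * y⁻¹) * r⁻¹) := by rw [hqr.eq, mul_inv_cancel_right]; group
      _ = x * y * x⁻¹ * y⁻¹ := by
        rw [((((cq hx hr).mul_right (cq hy hr)).mul_right (cq hx hr).inv_right).mul_right
          (cq hy hr).inv_right).inv_left.eq.symm, mul_inv_cancel_left]
  · intro x hx
    refine hR _ fun e he => ?_
    obtain ⟨q, hq, hqx⟩ := hPc x hx e he
    have hqx' : Commute q x := mem_centralizer_iff.1 hx.2 q hq
    have hq2 : q * q = 1 := by rw [← pow_two]; exact hel.2 q hq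
    calc e * (x * x) * e⁻¹ = (e * x * e⁻¹) * (e * x * e⁻¹) := by group
      _ = q * (x * q) * x := by rw [hqx]; group
      _ = (q * q) * (x * x) := by rw [← hqx'.eq]; group
      _ = x * x := by rw [hq2, one_mul]
  · intro b hb hbc a ha hR'
    refine hkeyQ₁ a ha ?_
    obtain ⟨x, hx, h0, -⟩ := hlact b hb a ha
    have hx0 : x ≠ 0 := fun hx0 => hbc ((hP b hb).2 ((hρ1 ⟨b, pc.hB hb⟩).1 (by
      rw [hx (pc.hB hb), hx0]; exact Cfsg.Lib.PushBlocks.uS_zero)))
    have hbaQ : b * a * b⁻¹ ∈ Q := (mem_normalizer_iff.1 (hBQ hb) a).1 ha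
    have hcQ' : b * a * b⁻¹ * a⁻¹ ∈ Q := Q.mul_mem hbaQ (Q.inv_mem ha)
    have h1 := congrFun (ladd _ hcQ' a ha) 0
    rw [inv_mul_cancel_right, (lker _ hcQ').2 hR'] at h1
    rw [h1] at h0
    simpa [hx0] using h0
  · obtain ⟨-, hWV, -⟩ := Cfsg.Lib.BlockBasic.block_props h.cp T hblk
    rw [hQW, hQE] at hWV
    exact hWV
  · have hPG : (Cfsg.pCore 2 G).Normal := inferInstanceAs (Cfsg.pCore 2 G).Normal
    refine hcoreE _ (Cfsg.Lib.Components.isPGroup_pCore 2) ?_ ?_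
    · exact le_top.trans (normalizer_eq_top_iff.2 hPG).ge
    · exact pCore_le_cS.trans (Env.cS_normalizes h hA hX hnc pc ⟨1, one_mem _, by ext x; simp [hE]⟩)
  · rw [← top_le_iff, ← Env.gens_sup h hA hX hnc pc]
    refine _root_.sup_le (_root_.sSup_le ?_) le_sup_right
    rintro _ ⟨t, ht, rfl⟩ _ ⟨e, he, rfl⟩
    exact (E ⊔ (T : Subgroup G)).mul_mem ((E ⊔ (T : Subgroup G)).mul_mem (mem_sup_right ht) (mem_sup_left he))
      ((E ⊔ (T : Subgroup G)).inv_mem (mem_sup_right ht))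
  · intro hEc
    obtain ⟨a, ha, hla⟩ := lsurj ![1, 0]
    have h1 : a ∈ centralizer (E : Set G) := mem_centralizer_iff.2 fun e he =>
      (mem_centralizer_iff.1 (hEc he) a ha).symm
    have h2 := congrFun ((lker a ha).2 h1) 0
    rw [hla] at h2
    simpa using h2

/-- a normal subgroup not containing the piece meets the Sylow subgroup in the core -/
theorem sylow_inf_normal (hmin : Cfsg.IsPMinimal 2 G) {E : Subgroup G} (hres : Cfsg.pResidualOf 2 E = E)
    {N : Subgroup G} [N.Normal] (hEN : ¬ E ≤ N) : (T : Subgroup G) ⊓ N ≤ Cfsg.pCore 2 G := by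
  obtain ⟨M, ⟨hM, hTM⟩, -⟩ := (hmin T).2
  have hNM : N ≤ M := by
    refine le_sup_left.trans (le_coatom hmin hM hTM (le_sup_right (a := N)) fun htop => hEN ?_)
    rw [← Cfsg.Lib.BlockBasic.closure_coprime_elements hres]
    exact (closure_le _).2 fun x hx =>
      coprime_mem_of_sup T.2 le_normalizer_of_normal (htop.ge (mem_top x)) hx.2
  obtain ⟨R, hR⟩ := card_sylow_inf T N
  have hfr := Sylow.normalizer_sup_eq_top R
  rw [hR] at hfr
  refine le_sSup ⟨?_, T.2.to_le inf_le_left⟩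
  rw [← normalizer_eq_top_iff]
  by_contra hne
  refine hM.1 (top_le_iff.1 (hfr ▸ _root_.sup_le (le_coatom hmin hM hTM ?_ hne) hNM))
  exact le_trans (le_inf Subgroup.le_normalizer
    (le_top.trans (normalizer_eq_top_iff.2 (inferInstance : N.Normal)).ge)) inf_normalizer_le_normalizer_inf

/-- when no characteristic subgroup of the Baumann subgroup is normal -/
theorem exists_normal_of_hyps (h : Hyps T) (A : Subgroup (MulAut ↥(T : Subgroup G))) (hA : Odd (Nat.card A)) :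
    ∃ U : Subgroup G, U ≠ ⊥ ∧ U.Normal ∧ U ≤ (T : Subgroup G) ∧
      ∀ a ∈ A, ∀ x : ↥(T : Subgroup G), (x : G) ∈ U → ((a x : ↥(T : Subgroup G)) : G) ∈ U := by
  revert A hA
  obtain ⟨E, Q, Q₁, hf⟩ := exists_facts h
  set S := (T : Subgroup G) with hS
  intro A hA
  set B := Cfsg.baumannSubgroupOf 2 S
  have hBS : B ≤ S := inf_le_left
  have hQS : Q ≤ S := hf.hQB.trans hBS
  set Qs := Q.subgroupOf S
  set Bs := B.subgroupOf S
  have hPs : ∀ x : ↥S, x ∈ Bs ⊓ centralizer (Qs : Set ↥S) ↔ (x : G) ∈ B ⊓ centralizer (Q : Set G) := by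
    intro x
    refine ⟨fun hx => ⟨hx.1, mem_centralizer_iff.2 fun a ha =>
      congrArg Subtype.val (mem_centralizer_iff.1 hx.2 ⟨a, hQS ha⟩ (mem_subgroupOf.2 ha))⟩,
      fun hx => ⟨hx.1, mem_centralizer_iff.2 fun a ha => Subtype.ext (mem_centralizer_iff.1 hx.2 a ha)⟩⟩
  have hcardP : Nat.card ↥(Bs ⊓ centralizer (Qs : Set ↥S)) = Nat.card ↥(B ⊓ centralizer (Q : Set G)) := by
    rw [show Bs ⊓ centralizer (Qs : Set ↥S) = (B ⊓ centralizer (Q : Set G)).subgroupOf S from Subgroup.ext hPs,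
      Nat.card_congr (subgroupOfEquivOfLe (inf_le_left.trans hBS)).toEquiv]
  have d : OddMatch.Data Bs Qs (Q₁.subgroupOf S) ((centralizer (E : Set G)).subgroupOf S) := {
    hchar := fun γ => (characteristic_iff_map_eq.1 (Cfsg.Lib.PushUpTransfer.baumann_char (p := 2) S)) γ
    hQB := fun x hx => hf.hQB hx
    hconj := fun b hb a ha => (mem_normalizer_iff.1 (hf.hBn hb) _).1 ha
    hel := by
      refine (Cfsg.Lib.Thompson.isElementaryAbelian_map_iff S.subtype_injective.injOn).1 ?_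
      rw [map_subgroupOf_eq_of_le hQS]
      exact hf.hel
    hQ₁ := fun x hx => hf.hQ₁ hx
    hcard := by
      rw [hcardP, Nat.card_congr (subgroupOfEquivOfLe hBS).toEquiv,
        Nat.card_congr (subgroupOfEquivOfLe (hf.hQ₁.trans hQS)).toEquiv,
        Nat.card_congr (subgroupOfEquivOfLe hQS).toEquiv]
      exact hf.hcard
    hcomm := fun x hx y hy => hf.hcomm _ ((hPs x).1 hx) _ ((hPs y).1 hy)
    hsq := fun x hx => hf.hsq _ ((hPs x).1 hx)
    key := fun b hb hbc a ha hR => hf.key _ hb (fun hc => hbc ((hPs b).2 ⟨hb, hc⟩).2) _ ha hR }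
  haveI := vS_normal (p := 2) (G := G)
  have hVab := omegaOneCenter_elementary (p := 2) (Cfsg.pCore 2 G)
  have hQQ : ∀ u : ↥S, Qs.map (MulAut.conj u).toMonoidHom ≤ centralizer (Qs : Set ↥S) := by
    rintro u _ ⟨q, hq, rfl⟩
    refine mem_centralizer_iff.2 fun r hr => Subtype.ext ?_
    exact Cfsg.Lib.ElemToolkit.comm_of hVab.1 (hf.hV hr)
      ((inferInstance : (vS 2 G).Normal).conj_mem _ (hf.hV hq) (u : G))
  -- the span of all images
  set Us : Subgroup ↥S := ⨆ a : A, ⨆ t : ↥S, (Qs.map (MulAut.conj t).toMonoidHom).map (a : MulAut ↥S).toMonoidHom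
    with hUs
  have hmm : ∀ (e f : MulAut ↥S) (K : Subgroup ↥S), (K.map f.toMonoidHom).map e.toMonoidHom = K.map (e * f).toMonoidHom :=
    fun e f K => by rw [Subgroup.map_map]; rfl
  have hUA : ∀ b ∈ A, Us.map (b : MulAut ↥S).toMonoidHom ≤ Us := by
    intro b hb
    rw [hUs, Subgroup.map_iSup]
    refine iSup_le fun a => ?_
    rw [Subgroup.map_iSup]
    refine iSup_le fun t => ?_
    rw [hmm]
    exact le_iSup_of_le (⟨b * a, A.mul_mem hb a.2⟩ : A) (le_iSup_of_le t le_rfl)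
  have hUS : ∀ u : ↥S, Us.map (MulAut.conj u).toMonoidHom ≤ Us := by
    intro u
    rw [hUs, Subgroup.map_iSup]
    refine iSup_le fun a => ?_
    rw [Subgroup.map_iSup]
    refine iSup_le fun t => ?_
    refine le_iSup_of_le a (le_iSup_of_le ((a : MulAut ↥S)⁻¹ u * t) (le_of_eq ?_))
    rw [hmm, hmm, hmm]
    congr 1
    ext x
    simp [MulAut.mul_apply, mul_assoc]
  set W : Subgroup G := (⨆ t : ↥S, Qs.map (MulAut.conj t).toMonoidHom).map S.subtype with hW
  set U : Subgroup G := Us.map S.subtype with hU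
  have hQW : Q ≤ W := by
    rw [hW, ← map_subgroupOf_eq_of_le hQS]
    exact Subgroup.map_mono (le_iSup_of_le 1 (by rw [map_one]; exact (Subgroup.map_id _).ge))
  have hWU : W ≤ U := Subgroup.map_mono (iSup_le fun t => le_iSup_of_le (1 : A) (le_iSup_of_le t
    (Subgroup.map_id _).ge))
  have hWV : W ≤ vS 2 G := by
    rw [hW, map_le_iff_le_comap]
    refine iSup_le fun t => ?_
    rintro _ ⟨q, hq, rfl⟩
    exact (inferInstance : (vS 2 G).Normal).conj_mem _ (hf.hV hq) (t : G)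
  have hWcore : W ≤ Cfsg.pCore 2 G := fun w hw => (vS_mem (hWV hw)).1
  -- subgroups of the core containing `Q` and normalised by the Sylow subgroup are normal
  have hnorm : ∀ X : Subgroup G, Q ≤ X → X ≤ Cfsg.pCore 2 G → S ≤ normalizer (X : Set G) → X.Normal := by
    intro X hQX hX hSX
    rw [← normalizer_eq_top_iff, ← top_le_iff, ← hf.hgen]
    refine _root_.sup_le ?_ hSX
    have h1 : ∀ e ∈ E, ∀ x ∈ X, e * x * e⁻¹ ∈ X := fun e he x hx => by
      have h2 : ⁅e, x⁆ ∈ ⁅E, Cfsg.pCore 2 G⁆ := commutator_mem_commutator he (hX hx)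
      rw [commutator_comm] at h2
      have h3 := X.mul_mem (hQX (hf.hcore h2)) hx
      rwa [commutatorElement_def, inv_mul_cancel_right] at h3
    intro e he
    rw [mem_normalizer_iff]
    refine fun x => ⟨h1 e he x, fun hx => ?_⟩
    simpa [mul_assoc] using h1 e⁻¹ (E.inv_mem he) _ hx
  have hSn : ∀ X : Subgroup ↥S, (∀ u : ↥S, X.map (MulAut.conj u).toMonoidHom ≤ X) →
      S ≤ normalizer ((X.map S.subtype : Subgroup G) : Set G) := by
    intro X hX u hu
    have hXn : X.Normal := ⟨fun x hx v => hX v (mem_map_of_mem _ hx)⟩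
    exact le_normalizer_map_sub S X hu
  have hWn : W.Normal := by
    refine hnorm W hQW hWcore (hSn _ fun u => ?_)
    rw [Subgroup.map_iSup]
    refine iSup_le fun t => le_iSup_of_le (u * t) ?_
    rw [hmm, map_mul]
  have hUc : U ≤ centralizer (W : Set G) := by
    rw [hU, hW, map_le_iff_le_comap]
    refine le_trans ?_ (show centralizer ((⨆ t : ↥S, Qs.map (MulAut.conj t).toMonoidHom : Subgroup ↥S) : Set ↥S)
      ≤ _ from fun x hx => mem_centralizer_iff.2 ?_)
    · rw [hUs, le_centralizer_iff]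
      refine iSup_le fun s => ?_
      rw [← le_centralizer_iff]
      refine iSup_le fun a => iSup_le fun t => ?_
      have hodd : Odd (orderOf (a : MulAut ↥S)) :=
        hA.of_dvd_nat (by rw [Subgroup.orderOf_coe]; exact orderOf_dvd_natCard a)
      have h1 := d.odd_image hQQ hodd (((a : MulAut ↥S) t)⁻¹ * s)
      rintro _ ⟨_, ⟨q, hq, rfl⟩, rfl⟩
      refine mem_centralizer_iff.2 ?_
      rintro _ ⟨r, hr, rfl⟩
      have h2 := congrArg (MulAut.conj ((a : MulAut ↥S) t))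
        (mem_centralizer_iff.1 (h1 (mem_map_of_mem _ hq)) _ (mem_map_of_mem _ hr))
      simpa [mul_assoc] using h2
    · rintro _ ⟨w, hw, rfl⟩
      exact congrArg Subtype.val (mem_centralizer_iff.1 hx w hw)
  have hUcore : U ≤ Cfsg.pCore 2 G :=
    (le_inf (map_subtype_le _) hUc).trans (sylow_inf_normal h.min hf.hres
      fun hE => hf.hmove (hE.trans (centralizer_le hQW)))
  refine ⟨U, fun hb => hf.hmove ?_, hnorm U (hQW.trans hWU) hUcore (hSn _ hUS), map_subtype_le _, ?_⟩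
  · have hQb : Q ≤ ⊥ := hb ▸ hQW.trans hWU
    exact fun e _ => mem_centralizer_iff.2 fun y hy => by rw [mem_bot.1 (hQb hy), one_mul, mul_one]
  · intro a ha x hx
    obtain ⟨y, hy, hyx⟩ := hx
    obtain rfl : y = x := Subtype.ext hyx
    exact mem_map_of_mem S.subtype (hUA a ha (mem_map_of_mem _ hy))

/-- some invariant nontrivial subgroup of the Sylow subgroup is normal -/
theorem exists_normal (hirr : ∀ S : Sylow 2 G, ∃! M : Subgroup G, IsCoatom M ∧ (S : Subgroup G) ≤ M)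
    (hchar : centralizer (Cfsg.pCore 2 G : Set G) ≤ Cfsg.pCore 2 G) (T : Sylow 2 G)
    (A : Subgroup (MulAut ↥(T : Subgroup G))) (hA : Odd (Nat.card A)) :
    ∃ U : Subgroup G, U ≠ ⊥ ∧ U.Normal ∧ U ≤ (T : Subgroup G) ∧
      ∀ a ∈ A, ∀ x : ↥(T : Subgroup G), (x : G) ∈ U → ((a x : ↥(T : Subgroup G)) : G) ∈ U := by
  have hTne : (T : Subgroup G) ≠ ⊥ := by
    intro hb
    have hc : Cfsg.pCore 2 G = ⊥ := le_bot_iff.1 (hb ▸ Cfsg.Lib.Coprime.pCore_le_sylow 2 T)
    rw [hc] at hchar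
    obtain ⟨M, ⟨hM, -⟩, -⟩ := hirr T
    exact hM.1 (top_le_iff.1 (le_trans (fun x _ => mem_centralizer_iff.2 fun y hy => by
      rw [mem_bot.1 hy, one_mul, mul_one]) (hchar.trans bot_le)))
  by_cases hC : ∃ C : Subgroup G, C ≤ (T : Subgroup G) ∧ C ≠ ⊥ ∧
      (C.subgroupOf (T : Subgroup G)).Characteristic ∧ C.Normal
  · obtain ⟨C, hC, hne, hch, hn⟩ := hC
    refine ⟨C, hne, hn, hC, fun a _ x hx => ?_⟩
    exact mem_subgroupOf.1 ((characteristic_iff_map_eq.1 hch a).le (mem_map_of_mem _ (mem_subgroupOf.2 hx)))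
  push Not at hC
  have hTn : ¬ (T : Subgroup G).Normal := hC _ le_rfl hTne (by rw [subgroupOf_self]; infer_instance)
  have h : Hyps T := by
    refine ⟨fun S => ⟨fun hS => hTn ?_, hirr S⟩, hchar, fun C hCB hne hch => ?_, ?_⟩
    · obtain ⟨g, hg⟩ := MulAction.exists_smul_eq G S T
      rw [← hg, Sylow.coe_subgroup_smul]
      haveI := hS
      exact Normal.map hS _ (MulAut.conj g).surjective
    · exact hC C (hCB.trans inf_le_left) hne (Cfsg.Lib.PushUpTransfer.char_of_char_baumann hCB hch)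
    · exact hC _ ((closure_le _).2 fun x hx => hx.1.1) (omega_ne_bot hTne) omega_char
  exact exists_normal_of_hyps h A hA

end Cfsg.Lib.LocalCStar.OddAut
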