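import Cfsg.Agent.Thompson.ElemToolkit

/-!
Odd automorphisms of a 2-group cannot exchange the module of a rank-one piece with an opposite subgroup.
-/

set_option autoImplicit false
set_option linter.unusedSectionVars false
set_option linter.style.haveILetI false

namespace Cfsg.Lib.LocalCStar.OddMatch

open Subgroup

variable {H : Type*} [Group H] [Finite H]

/-- what a rank-one piece leaves inside the Sylow subgroup -/
structure Data (B Q Q₁ R : Subgroup H) : Prop where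
  hchar : ∀ γ : MulAut H, B.map γ.toMonoidHom = B
  hQB : Q ≤ B
  hconj : ∀ b ∈ B, ∀ a ∈ Q, b * a * b⁻¹ ∈ Q
  hel : Cfsg.IsElementaryAbelian 2 Q
  hQ₁ : Q₁ ≤ Q
  hcard : Nat.card B * Nat.card Q₁ = Nat.card Q * Nat.card ↥(B ⊓ centralizer (Q : Set H))
  hcomm : ∀ x ∈ B ⊓ centralizer (Q : Set H), ∀ y ∈ B ⊓ centralizer (Q : Set H), x * y * x⁻¹ * y⁻¹ ∈ R
  hsq : ∀ x ∈ B ⊓ centralizer (Q : Set H), x * x ∈ R
  key : ∀ b ∈ B, b ∉ centralizer (Q : Set H) → ∀ a ∈ Q, b * a * b⁻¹ * a⁻¹ ∈ R → a ∈ Q₁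

variable {B Q Q₁ R : Subgroup H} (d : Data B Q Q₁ R)
include d

/-- the centralizer in `B` of an image of `Q` -/
theorem Data.map_P (γ : MulAut H) : (B ⊓ centralizer (Q : Set H)).map γ.toMonoidHom =
    B ⊓ centralizer ((Q.map γ.toMonoidHom : Subgroup H) : Set H) := by
  ext y
  constructor
  · rintro ⟨x, ⟨hxB, hxc⟩, rfl⟩
    refine ⟨(d.hchar γ).le (mem_map_of_mem _ hxB), mem_centralizer_iff.2 ?_⟩
    rintro _ ⟨q, hq, rfl⟩
    rw [← map_mul, ← map_mul, mem_centralizer_iff.1 hxc q hq]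
  · rintro ⟨hyB, hyc⟩
    obtain ⟨x, hx, rfl⟩ := (d.hchar γ).ge hyB
    refine ⟨x, ⟨hx, mem_centralizer_iff.2 fun q hq => γ.injective ?_⟩, rfl⟩
    rw [map_mul, map_mul]
    exact mem_centralizer_iff.1 hyc _ (mem_map_of_mem γ.toMonoidHom hq)

theorem Data.Q_le_P : Q ≤ B ⊓ centralizer (Q : Set H) :=
  le_inf d.hQB fun a ha => mem_centralizer_iff.2 fun b hb => Cfsg.Lib.ElemToolkit.comm_of d.hel.1 hb ha

theorem Data.inv_Q {a : H} (ha : a ∈ Q) : a⁻¹ = a := by
  have h := d.hel.2 a ha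
  rw [pow_two] at h
  exact inv_eq_of_mul_eq_one_right h

/-- an image of `Q` which does not commute with `Q` -/
def Data.Nb (_ : Data B Q Q₁ R) (γ : MulAut H) : Prop := ¬ Q.map γ.toMonoidHom ≤ centralizer (Q : Set H)

theorem Data.nb_inv {γ : MulAut H} (hγ : d.Nb γ) : d.Nb γ⁻¹ := by
  intro h
  refine hγ ?_
  rintro _ ⟨q, hq, rfl⟩
  refine mem_centralizer_iff.2 fun a ha => ?_
  have h1 := mem_centralizer_iff.1 (h (mem_map_of_mem _ ha)) q hq
  apply γ⁻¹.injective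
  rw [map_mul, map_mul]
  show γ⁻¹ a * γ⁻¹ (γ q) = γ⁻¹ (γ q) * γ⁻¹ a
  rw [MulAut.inv_apply_self]
  exact h1.symm

/-- `B` splits over `Q` and the centralizer of an opposite image -/
theorem Data.split {γ : MulAut H} (hγ : d.Nb γ) :
    (∀ b ∈ B, ∃ q ∈ Q, ∃ c ∈ B ⊓ centralizer ((Q.map γ.toMonoidHom : Subgroup H) : Set H), b = q * c) ∧
      Q₁ ≤ centralizer ((Q.map γ.toMonoidHom : Subgroup H) : Set H) := by
  set C := B ⊓ centralizer ((Q.map γ.toMonoidHom : Subgroup H) : Set H) with hC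
  have hYB : Q.map γ.toMonoidHom ≤ B := (map_mono d.hQB).trans (d.hchar γ).le
  obtain ⟨y, hy, hyc⟩ := SetLike.not_le_iff_exists.1 hγ
  have hinf : Q ⊓ C ≤ Q₁ := by
    rintro a ⟨haQ, -, hac⟩
    refine d.key y (hYB hy) hyc a haQ ?_
    rw [mem_centralizer_iff.1 hac y hy, mul_inv_cancel_right, mul_inv_cancel]
    exact one_mem _
  have hcardC : Nat.card C = Nat.card ↥(B ⊓ centralizer (Q : Set H)) := by
    rw [hC, ← d.map_P γ, card_map_of_injective (f := γ.toMonoidHom) γ.injective]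
  have h1 := Cfsg.Lib.ElemToolkit.mul_card_le Q C
  rw [hcardC, ← d.hcard] at h1
  have hle : Q ⊔ C ≤ B := _root_.sup_le d.hQB inf_le_left
  have h2 : Nat.card ↥(Q ⊓ C) ≤ Nat.card Q₁ := Nat.le_of_dvd Nat.card_pos (card_dvd_of_le hinf)
  have h3 : Nat.card ↥(Q ⊔ C) ≤ Nat.card B := Nat.le_of_dvd Nat.card_pos (card_dvd_of_le hle)
  have hsup : Q ⊔ C = B := Subgroup.eq_of_le_of_card_ge hle
    (Nat.le_of_mul_le_mul_right (h1.trans (Nat.mul_le_mul_left _ h2)) Nat.card_pos)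
  have heq : Q ⊓ C = Q₁ := Subgroup.eq_of_le_of_card_ge hinf
    (Nat.le_of_mul_le_mul_left (h1.trans (Nat.mul_le_mul_right _ h3)) Nat.card_pos)
  refine ⟨fun b hb => ?_, fun a ha => (heq.ge ha).2.2⟩
  have hn : C ≤ normalizer (Q : Set H) := fun c hc => by
    rw [mem_normalizer_iff]
    refine fun a => ⟨fun ha => d.hconj c hc.1 a ha, fun ha => ?_⟩
    simpa [mul_assoc] using d.hconj c⁻¹ (inv_mem hc.1) _ ha
  rw [← hsup, ← SetLike.mem_coe, coe_mul_of_right_le_normalizer_left _ _ hn] at hb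
  obtain ⟨q, hq, c, hc, rfl⟩ := hb
  exact ⟨q, hq, c, hc, rfl⟩

/-- `B` is an opposite image times the centralizer of `Q` -/
theorem Data.split' {γ : MulAut H} (hγ : d.Nb γ) :
    ∀ b ∈ B, ∃ y ∈ Q.map γ.toMonoidHom, ∃ m ∈ B ⊓ centralizer (Q : Set H), b = y * m := by
  intro b hb
  obtain ⟨b', hb', rfl⟩ := (d.hchar γ).ge hb
  obtain ⟨q, hq, c, hc, rfl⟩ := (d.split (d.nb_inv hγ)).1 b' hb'
  refine ⟨_, mem_map_of_mem _ hq, γ c, ⟨(d.hchar γ).le (mem_map_of_mem _ hc.1), ?_⟩, map_mul _ _ _⟩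
  refine mem_centralizer_iff.2 fun a ha => ?_
  have h1 := congrArg γ (mem_centralizer_iff.1 hc.2 _ (mem_map_of_mem (γ⁻¹ : MulAut H).toMonoidHom ha))
  rw [map_mul, map_mul] at h1
  simpa [MulAut.apply_inv_self] using h1

/-- the centralizer of an opposite image is unique -/
theorem Data.unique {γ δ : MulAut H} (hγ : d.Nb γ) (hδ : d.Nb δ) :
    B ⊓ centralizer ((Q.map γ.toMonoidHom : Subgroup H) : Set H) ≤
      B ⊓ centralizer ((Q.map δ.toMonoidHom : Subgroup H) : Set H) := by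
  rintro c ⟨hcB, hcc⟩
  refine ⟨hcB, mem_centralizer_iff.2 fun y' hy' => ?_⟩
  obtain ⟨hsγ, hQ₁γ⟩ := d.split hγ
  obtain ⟨hsδ, hQ₁δ⟩ := d.split hδ
  have hYB : Q.map γ.toMonoidHom ≤ B := (map_mono d.hQB).trans (d.hchar γ).le
  have hY'B : Q.map δ.toMonoidHom ≤ B := (map_mono d.hQB).trans (d.hchar δ).le
  have hQc : ∀ a ∈ Q, ∀ b ∈ Q, a * b = b * a := fun a ha b hb => Cfsg.Lib.ElemToolkit.comm_of d.hel.1 ha hb
  have hYc : ∀ a ∈ Q.map γ.toMonoidHom, ∀ b ∈ Q.map γ.toMonoidHom, Commute a b := by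
    rintro _ ⟨a, ha, rfl⟩ _ ⟨b, hb, rfl⟩
    exact (show Commute a b from hQc a ha b hb).map γ.toMonoidHom
  have cP : ∀ {x : H}, x ∈ centralizer (Q : Set H) → ∀ {a : H}, a ∈ Q → Commute x a :=
    fun hx _ ha => (mem_centralizer_iff.1 hx _ ha).symm
  have cY : ∀ {x : H}, x ∈ centralizer ((Q.map γ.toMonoidHom : Subgroup H) : Set H) →
      ∀ {a : H}, a ∈ Q.map γ.toMonoidHom → Commute x a := fun hx _ ha => (mem_centralizer_iff.1 hx _ ha).symm
  have cY' : ∀ {x : H}, x ∈ centralizer ((Q.map δ.toMonoidHom : Subgroup H) : Set H) →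
      ∀ {a : H}, a ∈ Q.map δ.toMonoidHom → Commute x a := fun hx _ ha => (mem_centralizer_iff.1 hx _ ha).symm
  show Commute y' c
  by_cases hyP : y' ∈ centralizer (Q : Set H)
  · obtain ⟨q, hq, c', hc', rfl⟩ := hsδ c hcB
    exact (cP hyP hq).mul_right (cY' hc'.2 hy').symm
  -- decompose `y'`
  obtain ⟨y, hy, m, hm, rfl⟩ := d.split' hγ y' (hY'B hy')
  have hyn : y ∉ centralizer (Q : Set H) := fun h => hyP (mul_mem h hm.2)
  obtain ⟨q, hq, k, hk, rfl⟩ := hsγ m hm.1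
  have hkP : k ∈ B ⊓ centralizer (Q : Set H) := by
    refine ⟨hk.1, ?_⟩
    have h1 := (centralizer (Q : Set H)).mul_mem ((centralizer (Q : Set H)).inv_mem (d.Q_le_P hq).2) hm.2
    rwa [inv_mul_cancel_left] at h1
  have hyy : y⁻¹ = y := by
    obtain ⟨y₀, hy₀, rfl⟩ := hy
    show (γ y₀)⁻¹ = γ y₀
    rw [← map_inv, d.inv_Q hy₀]
  have hyk : Commute y k := (cY hk.2 hy).symm
  have hqk : Commute q k := (cP hkP.2 hq).symm
  have hsq' : (y * (q * k)) * (y * (q * k)) = 1 := by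
    obtain ⟨z, hz, hze⟩ := hy'
    rw [← hze, ← map_mul, ← pow_two, d.hel.2 z hz, map_one]
  have hqQ₁ : q ∈ Q₁ := by
    refine d.key y (hYB hy) hyn q hq ?_
    have h1 : y * q * y * q * (k * k) = 1 := by
      calc y * q * y * q * (k * k) = y * q * (y * (q * k)) * k := by group
        _ = y * q * (k * y * q) * k := by
          rw [show y * (q * k) = k * y * q by rw [hqk.eq, ← mul_assoc, hyk.eq]]
        _ = (y * (q * k)) * (y * (q * k)) := by group
        _ = 1 := hsq'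
    rw [hyy, d.inv_Q hq, eq_inv_of_mul_eq_one_left h1]
    exact inv_mem (d.hsq k hkP)
  have hyq : Commute y q := (cY (hQ₁γ hqQ₁) hy).symm
  -- decompose `c`
  obtain ⟨y₀, hy₀, c₁, hc₁, rfl⟩ := d.split' hγ c hcB
  have hc₁Y : c₁ ∈ centralizer ((Q.map γ.toMonoidHom : Subgroup H) : Set H) := by
    have hy₀c : y₀ ∈ centralizer ((Q.map γ.toMonoidHom : Subgroup H) : Set H) :=
      mem_centralizer_iff.2 fun a ha => hYc a ha y₀ hy₀
    have h1 := (centralizer ((Q.map γ.toMonoidHom : Subgroup H) : Set H)).mul_mem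
      ((centralizer ((Q.map γ.toMonoidHom : Subgroup H) : Set H)).inv_mem hy₀c) hcc
    rwa [inv_mul_cancel_left] at h1
  refine Commute.mul_right ?_ ?_
  · exact (hYc y hy y₀ hy₀).mul_left ((cY (hQ₁γ hqQ₁) hy₀).mul_left (cY hk.2 hy₀))
  obtain ⟨a, ha, c', hc', rfl⟩ := hsδ c₁ hc₁.1
  have hcy : Commute (a * c') y := cY hc₁Y hy
  have hcq : Commute (a * c') q := cP hc₁.2 hq
  have hak : Commute a k := (cP hkP.2 ha).symm
  have haq : Commute a q := hQc a ha q hq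
  have hc'y : Commute c' (y * (q * k)) := cY' hc'.2 hy'
  have haQ₁ : a ∈ Q₁ := by
    refine d.key y (hYB hy) hyn a ha ?_
    set x := a * c' with hx
    have e1 : x * (y * (q * k)) * x⁻¹ = a * (y * (q * k)) * a⁻¹ := by
      rw [hx, mul_inv_rev, mul_assoc a c', hc'y.eq]
      group
    have e2 : x * (y * (q * k)) * x⁻¹ = y * q * (x * k * x⁻¹) := by
      calc x * (y * (q * k)) * x⁻¹ = x * (y * q) * k * x⁻¹ := by group
        _ = _ := by rw [(hcy.mul_right hcq).eq]; group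
    have e3 : a * (y * (q * k)) * a⁻¹ = a * y * a⁻¹ * q * k := by
      calc a * (y * (q * k)) * a⁻¹ = a * y * ((q * k) * a⁻¹) := by group
        _ = a * y * (a⁻¹ * (q * k)) := by rw [((haq.mul_right hak).inv_left).eq]
        _ = _ := by group
    have e4 : y * a * y⁻¹ * a⁻¹ = q * (x * k * x⁻¹ * k⁻¹) * q⁻¹ := by
      have h := e3.symm.trans (e1.symm.trans e2)
      calc y * a * y⁻¹ * a⁻¹ = y⁻¹ * (a * y * a⁻¹ * q * k) * (q * k)⁻¹ := by
            rw [hyy, d.inv_Q ha]; group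
        _ = y⁻¹ * (y * q * (x * k * x⁻¹)) * (q * k)⁻¹ := by rw [h]
        _ = _ := by rw [mul_inv_rev]; group
    rw [e4]
    have hz : Commute (x * k * x⁻¹ * k⁻¹) q :=
      ((hcq.mul_left hqk.symm).mul_left hcq.inv_left).mul_left hqk.symm.inv_left
    rw [← hz.eq, mul_inv_cancel_right]
    exact d.hcomm x hc₁ k hkP
  exact ((((cY (hQ₁γ haQ₁) hy).mul_right (haq.mul_right hak))).symm.mul_right hc'y.symm)

omit d in
theorem conj_pow (a : MulAut H) (v : H) : ∀ n : ℕ, ∃ w, (MulAut.conj v * a) ^ n = MulAut.conj w * a ^ n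
  | 0 => ⟨1, by simp⟩
  | n + 1 => by
    obtain ⟨w, hw⟩ := conj_pow a v n
    refine ⟨w * (a ^ n) v, ?_⟩
    rw [pow_succ, hw, pow_succ]
    ext x
    simp [MulAut.mul_apply, mul_assoc]

/-- an automorphism of odd order cannot move `Q` to an opposite subgroup of a conjugate -/
theorem Data.odd_image (hQQ : ∀ u : H, Q.map (MulAut.conj u).toMonoidHom ≤ centralizer (Q : Set H))
    {a : MulAut H} (ha : Odd (orderOf a)) (s : H) :
    Q.map a.toMonoidHom ≤ centralizer ((Q.map (MulAut.conj s).toMonoidHom : Subgroup H) : Set H) := by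
  by_contra hno
  set γ := MulAut.conj s⁻¹ * a with hγ
  have hnb : d.Nb γ := by
    intro h
    refine hno ?_
    rintro _ ⟨q, hq, rfl⟩
    refine mem_centralizer_iff.2 ?_
    rintro _ ⟨r, hr, rfl⟩
    have h1 := mem_centralizer_iff.1 (h (mem_map_of_mem _ hq)) r hr
    have h2 := congrArg (MulAut.conj s) h1
    rw [map_mul, map_mul] at h2
    simpa [hγ, MulAut.mul_apply, mul_assoc] using h2
  set P := B ⊓ centralizer (Q : Set H)
  have hfix : P.map γ.toMonoidHom = P.map (γ⁻¹ : MulAut H).toMonoidHom := by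
    rw [d.map_P, d.map_P]
    exact le_antisymm (d.unique hnb (d.nb_inv hnb)) (d.unique (d.nb_inv hnb) hnb)
  have hmm : ∀ (e f : MulAut H) (K : Subgroup H), K.map (e * f).toMonoidHom = (K.map f.toMonoidHom).map e.toMonoidHom :=
    fun e f K => by rw [Subgroup.map_map]; rfl
  have h2 : P.map (γ ^ 2).toMonoidHom = P := by
    rw [pow_two, hmm, hfix, ← hmm, mul_inv_cancel]
    exact Subgroup.map_id _
  obtain ⟨k, hk⟩ := ha
  have h2k : ∀ n : ℕ, P.map ((γ ^ 2) ^ n).toMonoidHom = P := by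
    intro n
    induction n with
    | zero => rw [pow_zero]; exact Subgroup.map_id _
    | succ n ih => rw [pow_succ, hmm, h2, ih]
  obtain ⟨w, hw⟩ := conj_pow a s⁻¹ (2 * (k + 1))
  have hak : a ^ (2 * (k + 1)) = a := by
    rw [show 2 * (k + 1) = orderOf a + 1 by omega, pow_succ, pow_orderOf_eq_one, one_mul]
  have h3 := h2k (k + 1)
  rw [← pow_mul, hγ, hw, hak, hmm] at h3
  -- the image of `P` under `a` is a conjugate of `P`
  apply hno
  rw [le_centralizer_iff]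
  rintro _ ⟨r, hr, rfl⟩
  have h4 : P.map a.toMonoidHom = P.map (MulAut.conj w⁻¹).toMonoidHom := by
    have h5 := congrArg (fun K => K.map (MulAut.conj w⁻¹).toMonoidHom) h3
    simp only [← hmm] at h5
    rwa [show MulAut.conj w⁻¹ * (MulAut.conj w * a) = a by rw [← mul_assoc, ← map_mul]; simp] at h5
  have h6 : MulAut.conj s r ∈ P.map (MulAut.conj w⁻¹).toMonoidHom := by
    rw [d.map_P]
    refine ⟨(d.hchar _).le (mem_map_of_mem _ (d.hQB hr)), mem_centralizer_iff.2 ?_⟩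
    rintro _ ⟨r', hr', rfl⟩
    have h7 := congrArg (MulAut.conj s)
      (mem_centralizer_iff.1 (hQQ (s⁻¹ * w⁻¹) (mem_map_of_mem _ hr')) r hr)
    rw [map_mul, map_mul] at h7
    simpa [mul_assoc] using h7.symm
  rw [← h4, d.map_P] at h6
  exact h6.2

end Cfsg.Lib.LocalCStar.OddMatch
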